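import Groth.Prelude.Def_FGA
import Mathlib.AlgebraicGeometry.IdealSheaf.Functorial
import Mathlib.AlgebraicGeometry.Morphisms.Immersion

/-!
# Hilbert functors: pullback of closed subschemes as `comap`, transport, push-forward along immersions
-/

universe u

open CategoryTheory CategoryTheory.Limits AlgebraicGeometry

namespace Groth.Agent.HilbLib

variable {X S : Scheme.{u}} {A B : Scheme.{u}}

lemma hilbPull_eq_comap (f : X ⟶ S) {T T' : Over S} (g : T' ⟶ T) (I : (PicF.XT f T).IdealSheafData) :
    FGA.hilbPull f g I = I.comap (PicF.XTmap f g) := by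
  rw [FGA.hilbPull, Scheme.IdealSheafData.comap,
    ← Scheme.Hom.ker_comp_of_isIso (pullbackSymmetry I.subschemeι (PicF.XTmap f g)).inv,
    pullbackSymmetry_inv_comp_snd]

/-- The base change of `a : T' ⟶ T` along `X_T ⟶ T`. -/
lemma isPullback_XTmap (f : X ⟶ S) {T T' : Over S} (g : T' ⟶ T) :
    IsPullback (PicF.XTmap f g) (pullback.snd f T'.hom) (pullback.snd f T.hom) g.left := by
  refine IsPullback.of_right ?_ (pullback.lift_snd _ _ _) (IsPullback.of_hasPullback f T.hom)
  rw [show PicF.XTmap f g ≫ pullback.fst f T.hom = pullback.fst f T'.hom from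
    (pullback.lift_fst _ _ _).trans (Category.comp_id _), Over.w g]
  exact IsPullback.of_hasPullback f T'.hom

/-- `(W ×_S T) ⟶ (X ×_S T)` is a base change of `ι : W ⟶ X`. -/
lemma isPullback_mapLeft {W : Scheme.{u}} (ι : W ⟶ X) (f : X ⟶ S) (fW : W ⟶ S) (hfW : ι ≫ f = fW)
    {T : Scheme.{u}} (t : T ⟶ S) (e₁ : fW ≫ 𝟙 S = ι ≫ f) (e₂ : t ≫ 𝟙 S = 𝟙 T ≫ t) :
    IsPullback (pullback.map fW t f t ι (𝟙 T) (𝟙 S) e₁ e₂) (pullback.fst fW t)
      (pullback.fst f t) ι := by
  refine IsPullback.of_right ?_ (pullback.lift_fst _ _ _) (IsPullback.of_hasPullback f t).flip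
  rw [show pullback.map fW t f t ι (𝟙 T) (𝟙 S) e₁ e₂ ≫ pullback.snd f t = pullback.snd fW t from
    (pullback.lift_snd _ _ _).trans (Category.comp_id _), hfW]
  exact (IsPullback.of_hasPullback fW t).flip

/-- Pulling back the image of a closed subscheme under a monomorphism gives it back. -/
lemma comap_ker_comp {Z : Scheme.{u}} (m : A ⟶ B) [Mono m] (i : Z ⟶ A) [IsClosedImmersion (i ≫ m)] :
    (i ≫ m).ker.comap m = i.ker := by
  rw [← Scheme.IdealSheafData.ker_fst_of_isClosedImmersion]
  have h : IsPullback i (𝟙 Z) m (i ≫ m) := by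
    refine ⟨⟨by simp⟩, ⟨PullbackCone.IsLimit.mk _ (fun s => s.snd) (fun s => ?_) (fun s => ?_) ?_⟩⟩
    · rw [← cancel_mono m, Category.assoc, s.condition]
    · exact Category.comp_id _
    · intro s l _ h2
      simpa using h2
  conv_rhs => rw [← h.isoPullback_hom_fst, Scheme.Hom.ker_comp_of_isIso]

/-- An ideal sheaf supported inside an open subscheme is the image of its restriction. -/
lemma ker_comap_comp (I : B.IdealSheafData) (m : A ⟶ B) [IsOpenImmersion m]
    (h : (I.support : Set B) ⊆ Set.range m) : ((I.comap m).subschemeι ≫ m).ker = I := by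
  have : IsOpenImmersion (pullback.snd m I.subschemeι) := inferInstance
  have : Surjective (pullback.snd m I.subschemeι) := ⟨fun z => by
    obtain ⟨a, ha⟩ := h (I.range_subschemeι.le ⟨z, rfl⟩)
    obtain ⟨p, -, hp⟩ := Scheme.Pullback.exists_preimage_pullback (f := m) (g := I.subschemeι) a z ha
    exact ⟨p, hp⟩⟩
  have : IsIso (pullback.snd m I.subschemeι) := by
    have : Epi (pullback.snd m I.subschemeι).base :=
      (TopCat.epi_iff_surjective _).mpr (pullback.snd m I.subschemeι).surjective
    exact IsOpenImmersion.isIso _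
  rw [← Scheme.IdealSheafData.comapIso_hom_fst, Category.assoc, pullback.condition,
    Scheme.Hom.ker_comp_of_isIso, Scheme.Hom.ker_comp_of_isIso, I.ker_subschemeι]

/-- A property of the subscheme over a base only depends on the closed immersion up to isomorphism. -/
lemma subscheme_ker_prop (P : MorphismProperty Scheme.{u}) [P.RespectsIso] {Z T : Scheme.{u}}
    (c : Z ⟶ B) [IsClosedImmersion c] (q : B ⟶ T) : P (c.ker.subschemeι ≫ q) ↔ P (c ≫ q) := by
  conv_rhs => rw [← c.toImage_imageι, Category.assoc]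
  exact (MorphismProperty.cancel_left_of_respectsIso P c.toImage _).symm

/-- The push-forward of a Hilbert point along an immersion into a separated scheme. -/
lemma isClosedImmersion_comp_map {W : Scheme.{u}} (f : X ⟶ S) [IsSeparated f] (ι : W ⟶ X)
    [IsImmersion ι] (T : Over S) (V : FGA.HilbSet (ι ≫ f) T) :
    IsClosedImmersion (V.1.subschemeι ≫ pullback.map (ι ≫ f) T.hom f T.hom ι (𝟙 T.left) (𝟙 S)
      (Category.comp_id _) ((Category.comp_id _).trans (Category.id_comp _).symm)) := by
  let m := pullback.map (ι ≫ f) T.hom f T.hom ι (𝟙 T.left) (𝟙 S)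
    (Category.comp_id _) ((Category.comp_id _).trans (Category.id_comp _).symm)
  have : IsImmersion m :=
    MorphismProperty.of_isPullback (P := @IsImmersion)
      (isPullback_mapLeft ι f (ι ≫ f) rfl T.hom _ _).flip ‹_›
  have hp : IsProper ((V.1.subschemeι ≫ m) ≫ pullback.snd f T.hom) := by
    rw [Category.assoc, show m ≫ pullback.snd f T.hom = pullback.snd (ι ≫ f) T.hom from
      (pullback.lift_snd _ _ _).trans (Category.comp_id _)]
    exact V.2.1
  have : IsProper (V.1.subschemeι ≫ m) := IsProper.of_comp _ (pullback.snd f T.hom)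
  exact IsClosedImmersion.of_isPreimmersion _
    (V.1.subschemeι ≫ m).isClosedMap.isClosed_range

end Groth.Agent.HilbLib
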